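import Cfsg.Agent.H540.ClassNum
import Mathlib.GroupTheory.GroupAction.Quotient
import Mathlib.GroupTheory.GroupAction.Transitive
import Mathlib.LinearAlgebra.DFinsupp

/-!
# Class numbers and orbit numbers of imprimitive groups

`yn G W` is the number of orbits of `G` on `V` meeting `W \ {0}`.  If `H` permutes transitively the members `W i` of an
independent family of subgroups of `V` and `N` is the stabilizer of `i₀`, then
`k(N) * yn N (W i₀) ≤ k(H) * yn H V`.
-/

set_option autoImplicit false

universe u v w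

namespace Cfsg.Agent.H150.Mar

open MulAction

/-- the number of `G`-orbits on `V` containing a nonzero element of `W` -/
noncomputable def yn (G : Type u) [Group G] {V : Type v} [AddCommGroup V] [MulAction G V] (W : Set V) : ℕ :=
  Nat.card {ω : orbitRel.Quotient G V // ∃ w ∈ W, w ≠ 0 ∧ ω = Quotient.mk'' w}

variable {H : Type u} [Group H] {V : Type v} [AddCommGroup V] [DistribMulAction H V]

theorem eq_of_sum {ι : Type w} [Fintype ι] [DecidableEq ι] {W : ι → AddSubgroup V} (hind : iSupIndep W)
    (a b : ∀ i, W i) (h : ∑ i, (a i : V) = ∑ i, (b i : V)) : a = b := by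
  have h1 := hind.dfinsuppSumAddHom_injective
  have h2 : ∀ c : ∀ i, W i, DFinsupp.sumAddHom (fun i => (W i).subtype) (DFinsupp.equivFunOnFintype.symm c) =
      ∑ i, (c i : V) := by
    intro c
    classical
    rw [DFinsupp.sumAddHom_apply, DFinsupp.sum_eq_sum_fintype]
    · exact Finset.sum_congr rfl (fun i _ => rfl)
    · intro i; simp
  have h3 := h1 (a₁ := DFinsupp.equivFunOnFintype.symm a) (a₂ := DFinsupp.equivFunOnFintype.symm b)
    (by rw [h2, h2, h])
  exact DFinsupp.equivFunOnFintype.symm.injective h3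

/-- uniqueness of the support and of the components -/
theorem supp_unique {ι : Type w} [Finite ι] [DecidableEq ι] {W : ι → AddSubgroup V} (hind : iSupIndep W)
    (S T : Finset ι) (a b : ι → V) (ha : ∀ i, a i ∈ W i) (hb : ∀ i, b i ∈ W i)
    (ha0 : ∀ i ∈ S, a i ≠ 0) (hb0 : ∀ i ∈ T, b i ≠ 0) (h : ∑ i ∈ S, a i = ∑ i ∈ T, b i) :
    S = T ∧ ∀ i ∈ S, a i = b i := by
  have := Fintype.ofFinite ι
  set a' : ∀ i, W i := fun i => if i ∈ S then ⟨a i, ha i⟩ else 0 with ha'
  set b' : ∀ i, W i := fun i => if i ∈ T then ⟨b i, hb i⟩ else 0 with hb'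
  have hsa : ∀ i, (a' i : V) = if i ∈ S then a i else 0 := by
    intro i; simp only [ha']; split_ifs <;> rfl
  have hsb : ∀ i, (b' i : V) = if i ∈ T then b i else 0 := by
    intro i; simp only [hb']; split_ifs <;> rfl
  have hab : a' = b' := by
    apply eq_of_sum hind
    simp only [hsa, hsb, Finset.sum_ite_mem, Finset.univ_inter]
    exact h
  have hc : ∀ i, (if i ∈ S then a i else 0) = (if i ∈ T then b i else 0) := by
    intro i; rw [← hsa, ← hsb, hab]
  have hST : S = T := by
    ext i
    have := hc i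
    constructor
    · intro hi
      by_contra hi'
      rw [if_pos hi, if_neg hi'] at this
      exact ha0 i hi this
    · intro hi
      by_contra hi'
      rw [if_neg hi', if_pos hi] at this
      exact hb0 i hi this.symm
  refine ⟨hST, fun i hi => ?_⟩
  have := hc i
  rwa [if_pos hi, if_pos (hST ▸ hi)] at this

/-- **The orbit number of an imprimitive group.** -/
theorem mul_yn_le [Finite V] {ι : Type w} [Finite ι] [MulAction H ι] [IsPretransitive H ι]
    (W : ι → AddSubgroup V) (hW : ∀ (h : H) (i : ι), ∀ w ∈ W i, h • w ∈ W (h • i)) (hind : iSupIndep W) (i₀ : ι) :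
    Nat.card ι * yn (stabilizer H i₀) (W i₀ : Set V) ≤ yn H (Set.univ : Set V) := by
  classical
  have := Fintype.ofFinite ι
  have hne : Nonempty ι := ⟨i₀⟩
  set t := Fintype.card ι with ht
  let e : Fin t ≃ ι := (Fintype.equivFin ι).symm
  -- transporters
  have hh : ∀ i : ι, ∃ h : H, h • i₀ = i := fun i => exists_smul_eq H i₀ i
  choose τ hτ using hh
  let S : Fin t → Finset ι := fun s => (Finset.univ.filter (fun j : Fin t => j ≤ s)).image e
  have hScard : ∀ s, (S s).card = s.val + 1 := by
    intro s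
    rw [Finset.card_image_of_injective _ e.injective]
    have : (Finset.univ.filter (fun j : Fin t => j ≤ s)) = Finset.Iic s := by ext; simp
    rw [this, Fin.card_Iic]
  let X := {ω : orbitRel.Quotient (stabilizer H i₀) V // ∃ w ∈ (W i₀ : Set V), w ≠ 0 ∧ ω = Quotient.mk'' w}
  have hrep : ∀ ω : X, ∃ w ∈ (W i₀ : Set V), w ≠ 0 ∧ ω.1 = Quotient.mk'' w := fun ω => ω.2
  choose r hrW hr0 hr using hrep
  let vv : Fin t × X → V := fun x => ∑ i ∈ S x.1, τ i • r x.2
  have hmem : ∀ (ω : X) (i : ι), τ i • r ω ∈ W i := by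
    intro ω i
    have := hW (τ i) i₀ (r ω) (hrW ω)
    rwa [hτ] at this
  have hne0 : ∀ (ω : X) (i : ι), τ i • r ω ≠ 0 := by
    intro ω i h
    exact hr0 ω ((smul_eq_zero_iff_eq _).1 h)
  have hkey : ∀ (x y : Fin t × X) (g : H), g • vv y = vv x → x = y := by
    rintro ⟨s, ω⟩ ⟨s', ω'⟩ g hg
    have h1 : g • vv (s', ω') = ∑ i ∈ (S s').map (MulAction.toPerm g).toEmbedding, g • τ (g⁻¹ • i) • r ω' := by
      rw [Finset.sum_map]
      simp only [vv, Equiv.coe_toEmbedding, MulAction.toPerm_apply, inv_smul_smul, Finset.smul_sum]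
    rw [h1] at hg
    have h2 := supp_unique hind _ _ (fun i => g • τ (g⁻¹ • i) • r ω') (fun i => τ i • r ω)
      (fun i => by
        have := hW g (g⁻¹ • i) _ (hmem ω' (g⁻¹ • i))
        rwa [smul_inv_smul] at this)
      (fun i => hmem ω i)
      (fun i _ h => hne0 ω' (g⁻¹ • i) ((smul_eq_zero_iff_eq _).1 h))
      (fun i _ => hne0 ω i) hg
    obtain ⟨h3, h4⟩ := h2
    have hcard : (S s').card = (S s).card := by
      rw [← h3, Finset.card_map]
    have hss : s = s' := by
      rw [hScard, hScard] at hcard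
      exact Fin.ext (by omega)
    have hωω : ω = ω' := by
      have h5 : (S s).Nonempty := by
        rw [← Finset.card_pos, hScard]; omega
      obtain ⟨i, hi⟩ := h5
      rw [← h3] at hi
      have h6 := h4 i hi
      apply Subtype.ext
      rw [hr ω, hr ω']
      apply Quotient.sound'
      rw [orbitRel_apply]
      have hst : (τ i)⁻¹ * g * τ (g⁻¹ • i) ∈ stabilizer H i₀ := by
        rw [mem_stabilizer_iff, mul_smul, mul_smul, hτ, smul_inv_smul, inv_smul_eq_iff, hτ]
      refine ⟨⟨_, hst⟩, ?_⟩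
      show ((τ i)⁻¹ * g * τ (g⁻¹ • i)) • r ω' = r ω
      rw [mul_smul, mul_smul, h6, inv_smul_smul]
    rw [hss, hωω]
  have hvv0 : ∀ x, vv x ≠ 0 := by
    rintro ⟨s, ω⟩ h
    have h2 := supp_unique hind (S s) ∅ (fun i => τ i • r ω) (fun _ => 0) (fun i => hmem ω i)
      (fun i => (W i).zero_mem) (fun i _ => hne0 ω i) (fun i hi => by simp at hi) (by simpa using h)
    have := hScard s
    rw [h2.1] at this
    simp at this
  let F : Fin t × X → {ω : orbitRel.Quotient H V // ∃ w ∈ (Set.univ : Set V), w ≠ 0 ∧ ω = Quotient.mk'' w} :=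
    fun x => ⟨Quotient.mk'' (vv x), vv x, Set.mem_univ _, hvv0 x, rfl⟩
  have hF : Function.Injective F := by
    intro x y hxy
    have h1 : (Quotient.mk'' (vv x) : orbitRel.Quotient H V) = Quotient.mk'' (vv y) := congrArg Subtype.val hxy
    have h2 := Quotient.exact' h1
    rw [orbitRel_apply] at h2
    obtain ⟨g, hg⟩ := h2
    exact hkey x y g hg
  have hfin : Finite X := by
    have : Finite (orbitRel.Quotient (stabilizer H i₀) V) := Quotient.finite _
    exact Subtype.finite
  have hfin2 : Finite {ω : orbitRel.Quotient H V // ∃ w ∈ (Set.univ : Set V), w ≠ 0 ∧ ω = Quotient.mk'' w} := by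
    have : Finite (orbitRel.Quotient H V) := Quotient.finite _
    exact Subtype.finite
  have := Nat.card_le_card_of_injective F hF
  rw [Nat.card_prod, Nat.card_fin] at this
  rw [Nat.card_eq_fintype_card]
  exact this

/-- **Inheritance**: `k(N) y(N, W i₀) ≤ k(H) y(H, V)`. -/
theorem imprim [Finite H] [Finite V] {ι : Type w} [Finite ι] [MulAction H ι] [IsPretransitive H ι]
    (W : ι → AddSubgroup V) (hW : ∀ (h : H) (i : ι), ∀ w ∈ W i, h • w ∈ W (h • i)) (hind : iSupIndep W) (i₀ : ι) :
    Nat.card (ConjClasses (stabilizer H i₀)) * yn (stabilizer H i₀) (W i₀ : Set V) ≤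
      Nat.card (ConjClasses H) * yn H (Set.univ : Set V) := by
  have h1 := H540.ClassNum.le_index_mul (stabilizer H i₀)
  have h2 : (stabilizer H i₀).index = Nat.card ι := by
    rw [index_stabilizer_of_transitive]
  have h3 := mul_yn_le W hW hind i₀
  rw [h2] at h1
  calc _ ≤ (Nat.card ι * Nat.card (ConjClasses H)) * yn (stabilizer H i₀) (W i₀ : Set V) := Nat.mul_le_mul_right _ h1
    _ = Nat.card (ConjClasses H) * (Nat.card ι * yn (stabilizer H i₀) (W i₀ : Set V)) := by ring
    _ ≤ _ := Nat.mul_le_mul_left _ h3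

end Cfsg.Agent.H150.Mar
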